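import Groth.Agent.AffLim.Presentation
import Mathlib

/-!
A point of an affine scheme as a cofiltered limit of constructible locally closed subschemes of finite
presentation.
-/

set_option autoImplicit false
set_option backward.isDefEq.respectTransparency false
set_option linter.style.haveILetI false

universe u

open CategoryTheory CategoryTheory.Limits AlgebraicGeometry TopologicalSpace Topology

noncomputable section

namespace Groth.Agent.PointStage

variable (A : Type u) [CommRing A] (p : Ideal A) [p.IsPrime]

/-- Pairs of an element outside `p` and a finitely generated ideal inside `p`. -/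
def Idx : Type u := {d : A × Ideal A // d.1 ∉ p ∧ d.2.FG ∧ d.2 ≤ p}

instance : Preorder (Idx A p) where
  le d d' := d.1.1 ∣ d'.1.1 ∧ d.1.2 ≤ d'.1.2
  le_refl d := ⟨dvd_rfl, le_rfl⟩
  le_trans a b c h h' := ⟨h.1.trans h'.1, h.2.trans h'.2⟩

instance : IsDirectedOrder (Idx A p) :=
  ⟨fun d d' => ⟨⟨(d.1.1 * d'.1.1, d.1.2 ⊔ d'.1.2),
    fun h => (Ideal.IsPrime.mem_or_mem inferInstance h).elim d.2.1 d'.2.1,
    Submodule.FG.sup d.2.2.1 d'.2.2.1, sup_le d.2.2.2 d'.2.2.2⟩,
    ⟨dvd_mul_right _ _, le_sup_left⟩, ⟨dvd_mul_left _ _, le_sup_right⟩⟩⟩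

instance : Nonempty (Idx A p) :=
  ⟨⟨(1, ⊥), fun h => Ideal.IsPrime.ne_top inferInstance ((Ideal.eq_top_iff_one _).2 h),
    Submodule.fg_bot, bot_le⟩⟩

/-- A stage. -/
abbrev Stage (d : Idx A p) : Type u := Localization.Away d.1.1 ⧸ d.1.2.map (algebraMap A (Localization.Away d.1.1))

theorem isUnit_stage {d d' : Idx A p} (h : d ≤ d') : IsUnit (algebraMap A (Stage A p d') d.1.1) :=
  isUnit_of_dvd_unit (map_dvd _ h.1) (by
    rw [IsScalarTower.algebraMap_apply A (Localization.Away d'.1.1) (Stage A p d')]
    exact (IsLocalization.Away.algebraMap_isUnit d'.1.1).map _)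

theorem map_mem_stage {d d' : Idx A p} (h : d ≤ d') {a : A} (ha : a ∈ d.1.2) :
    algebraMap A (Stage A p d') a = 0 := by
  rw [IsScalarTower.algebraMap_apply A (Localization.Away d'.1.1) (Stage A p d')]
  exact Ideal.Quotient.eq_zero_iff_mem.2 (Ideal.mem_map_of_mem _ (h.2 ha))

/-- The transition maps. -/
def trans {d d' : Idx A p} (h : d ≤ d') : Stage A p d →+* Stage A p d' :=
  Ideal.Quotient.lift _ (IsLocalization.Away.lift d.1.1 (isUnit_stage A p h)) fun x hx => by
    have hle : d.1.2.map (algebraMap A (Localization.Away d.1.1)) ≤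
        RingHom.ker (IsLocalization.Away.lift (S := Localization.Away d.1.1) d.1.1 (isUnit_stage A p h)) := by
      rw [Ideal.map_le_iff_le_comap]
      intro a ha
      show IsLocalization.Away.lift d.1.1 (isUnit_stage A p h) (algebraMap A _ a) = 0
      rw [IsLocalization.Away.lift_eq]
      exact map_mem_stage A p h ha
    exact hle hx

@[simp] theorem trans_algebraMap {d d' : Idx A p} (h : d ≤ d') (a : A) :
    trans A p h (algebraMap A (Stage A p d) a) = algebraMap A (Stage A p d') a := by
  exact IsLocalization.Away.lift_eq d.1.1 (isUnit_stage A p h) a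

theorem ringHom_ext {d : Idx A p} {R : Type u} [CommRing R] {f g : Stage A p d →+* R}
    (h : ∀ a, f (algebraMap A (Stage A p d) a) = g (algebraMap A (Stage A p d) a)) : f = g := by
  refine Ideal.Quotient.ringHom_ext ?_
  refine IsLocalization.ringHom_ext (Submonoid.powers d.1.1) (RingHom.ext fun a => ?_)
  exact h a

/-- The system of stages. -/
def ring : Idx A p ⥤ CommRingCat.{u} where
  obj d := CommRingCat.of (Stage A p d)
  map h := CommRingCat.ofHom (trans A p h.le)
  map_id d := by
    refine CommRingCat.hom_ext (ringHom_ext A p fun a => ?_)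
    simp
  map_comp {a b c} h h' := by
    refine CommRingCat.hom_ext (ringHom_ext A p fun x => ?_)
    simp

theorem isUnit_point (d : Idx A p) : IsUnit (algebraMap A p.ResidueField d.1.1) :=
  isUnit_iff_ne_zero.2 fun h => d.2.1 (Ideal.algebraMap_residueField_eq_zero.1 h)

/-- The map from a stage to the point. -/
def toPoint (d : Idx A p) : Stage A p d →+* p.ResidueField :=
  Ideal.Quotient.lift _ (IsLocalization.Away.lift d.1.1 (isUnit_point A p d)) fun x hx => by
    have hle : d.1.2.map (algebraMap A (Localization.Away d.1.1)) ≤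
        RingHom.ker (IsLocalization.Away.lift (S := Localization.Away d.1.1) d.1.1 (isUnit_point A p d)) := by
      rw [Ideal.map_le_iff_le_comap]
      intro a ha
      show IsLocalization.Away.lift d.1.1 (isUnit_point A p d) (algebraMap A _ a) = 0
      rw [IsLocalization.Away.lift_eq]
      exact Ideal.algebraMap_residueField_eq_zero.2 (d.2.2.2 ha)
    exact hle hx

@[simp] theorem toPoint_algebraMap (d : Idx A p) (a : A) :
    toPoint A p d (algebraMap A (Stage A p d) a) = algebraMap A p.ResidueField a := by
  exact IsLocalization.Away.lift_eq d.1.1 (isUnit_point A p d) a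

theorem toPoint_trans {d d' : Idx A p} (h : d ≤ d') (x : Stage A p d) :
    toPoint A p d' (trans A p h x) = toPoint A p d x :=
  RingHom.congr_fun (ringHom_ext A p (f := (toPoint A p d').comp (trans A p h)) (g := toPoint A p d)
    fun a => by simp) x

/-- The point under the system. -/
def cocone : Cocone (ring A p) where
  pt := CommRingCat.of p.ResidueField
  ι :=
    { app := fun d => CommRingCat.ofHom (toPoint A p d)
      naturality := fun _ _ h => by
        ext x
        exact toPoint_trans A p h.le x }

theorem exists_repr (d : Idx A p) (x : Stage A p d) :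
    ∃ (a : A) (u : (Stage A p d)ˣ), x = algebraMap A (Stage A p d) a * u := by
  obtain ⟨y, rfl⟩ := Ideal.Quotient.mk_surjective x
  obtain ⟨n, a, ha⟩ := IsLocalization.Away.surj d.1.1 y
  have hu := (isUnit_stage A p (le_refl d)).pow n
  refine ⟨a, hu.unit⁻¹, ?_⟩
  rw [Units.eq_mul_inv_iff_mul_eq, IsUnit.unit_spec, IsScalarTower.algebraMap_apply A (Localization.Away d.1.1),
    IsScalarTower.algebraMap_apply A (Localization.Away d.1.1) (Stage A p d) a]
  show Ideal.Quotient.mk _ y * Ideal.Quotient.mk _ _ ^ n = Ideal.Quotient.mk _ _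
  rw [← map_pow, ← map_mul, ha]

/-- The point is the colimit of the stages. -/
def isColimitCocone : IsColimit (cocone A p) :=
  (AffLim.nonempty_isColimit_of_elementwise (cocone A p)
    (fun x => by
      revert x
      show ∀ x : p.ResidueField, _
      intro x
      obtain ⟨a, b, hb, rfl⟩ := IsFractionRing.div_surjective (A := A ⧸ p) x
      obtain ⟨a, rfl⟩ := Ideal.Quotient.mk_surjective a
      obtain ⟨b, rfl⟩ := Ideal.Quotient.mk_surjective b
      have hbp : b ∉ p := fun h => (mem_nonZeroDivisors_iff_ne_zero.1 hb) (Ideal.Quotient.eq_zero_iff_mem.2 h)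
      let d : Idx A p := ⟨(b, ⊥), hbp, Submodule.fg_bot, bot_le⟩
      refine ⟨d, algebraMap A (Stage A p d) a * ((isUnit_stage A p (le_refl d)).unit⁻¹).val, ?_⟩
      show toPoint A p d _ = _
      rw [map_mul, map_units_inv, IsUnit.unit_spec, toPoint_algebraMap, toPoint_algebraMap, div_eq_mul_inv,
        ← Ideal.Quotient.algebraMap_eq, ← IsScalarTower.algebraMap_apply, ← IsScalarTower.algebraMap_apply])
    (fun d x y e => by
      obtain ⟨a, u, hu⟩ := exists_repr A p d (x - y)
      have ha : a ∈ p := by
        refine Ideal.algebraMap_residueField_eq_zero.1 ?_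
        have e' : toPoint A p d (x - y) = 0 := by
          rw [map_sub, sub_eq_zero]; exact e
        rw [hu, map_mul, toPoint_algebraMap] at e'
        exact (u.isUnit.map (toPoint A p d)).mul_left_eq_zero.1 e'
      let d' : Idx A p := ⟨(d.1.1, d.1.2 ⊔ Ideal.span {a}), d.2.1, Submodule.FG.sup d.2.2.1 (Submodule.fg_span_singleton a),
        sup_le d.2.2.2 ((Ideal.span_singleton_le_iff_mem _).2 ha)⟩
      have h : d ≤ d' := ⟨dvd_rfl, le_sup_left⟩
      refine ⟨d', h, sub_eq_zero.1 ?_⟩
      show trans A p h x - trans A p h y = 0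
      rw [← map_sub, hu, map_mul, trans_algebraMap]
      rw [map_mem_stage A p (le_refl d') (le_sup_right (a := d.1.2) (Ideal.mem_span_singleton_self a)), zero_mul])).some

/-- The system of spectra. -/
def sys : (Idx A p)ᵒᵖ ⥤ Scheme.{u} := (ring A p).op ⋙ Scheme.Spec

/-- The cone with vertex the point. -/
def cone : Cone (sys A p) := Scheme.Spec.mapCone (cocone A p).op

/-- The point is the limit. -/
def isLimitCone : IsLimit (cone A p) := isLimitOfPreserves Scheme.Spec (isColimitCocone A p).op

instance isAffine_sys (i : (Idx A p)ᵒᵖ) : IsAffine ((sys A p).obj i) :=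
  inferInstanceAs (IsAffine (Spec (CommRingCat.of (Stage A p i.unop))))

instance isAffineHom_sys {i j : (Idx A p)ᵒᵖ} (a : i ⟶ j) : IsAffineHom ((sys A p).map a) :=
  inferInstanceAs (IsAffineHom (Spec.map _))

instance : IsFiltered (Idx A p) := CategoryTheory.isFiltered_of_directed_le_nonempty _

instance : IsCofiltered (Idx A p)ᵒᵖ := isCofiltered_op_of_isFiltered _

/-- The structure map of a stage. -/
def str (i : (Idx A p)ᵒᵖ) : (sys A p).obj i ⟶ Spec (CommRingCat.of A) :=
  Spec.map (CommRingCat.ofHom (algebraMap A (Stage A p i.unop)))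

theorem map_str {i j : (Idx A p)ᵒᵖ} (a : i ⟶ j) : (sys A p).map a ≫ str A p j = str A p i := by
  show Spec.map _ ≫ Spec.map _ = Spec.map _
  rw [← Spec.map_comp]
  congr 1
  ext x
  exact trans_algebraMap A p a.unop.le x

theorem π_str (i : (Idx A p)ᵒᵖ) :
    (cone A p).π.app i ≫ str A p i = Spec.map (CommRingCat.ofHom (algebraMap A p.ResidueField)) := by
  show Spec.map _ ≫ Spec.map _ = Spec.map _
  rw [← Spec.map_comp]
  congr 1
  ext x
  exact toPoint_algebraMap A p i.unop x

instance locallyOfFinitePresentation_str (i : (Idx A p)ᵒᵖ) : LocallyOfFinitePresentation (str A p i) := by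
  haveI : Algebra.FinitePresentation A (Localization.Away i.unop.1.1) :=
    IsLocalization.Away.finitePresentation i.unop.1.1
  haveI : Algebra.FinitePresentation A (Stage A p i.unop) :=
    Algebra.FinitePresentation.quotient (i.unop.2.2.1.map _)
  rw [str, HasRingHomProperty.Spec_iff (P := @LocallyOfFinitePresentation)]
  exact (RingHom.finitePresentation_algebraMap (A := A) (B := Stage A p i.unop)).2 inferInstance

end Groth.Agent.PointStage
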