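import Groth.Agent.PointStage.Basic
import Groth.Agent.EtAlgEasy.IndConsPair
import Groth.Agent.FibreMapConstr.Basic
import Groth.Prelude.Def_ProCons
import Mathlib

/-!
Loci of points described by a property of the fibre, descending to constructible neighbourhoods of
the point, are ind-constructible.
-/

set_option autoImplicit false
set_option backward.isDefEq.respectTransparency false
set_option linter.style.haveILetI false

universe u

open CategoryTheory CategoryTheory.Limits AlgebraicGeometry TopologicalSpace Topology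

noncomputable section

namespace Groth.Agent.PointStage

variable {Y S : Scheme.{u}} (g : Y ⟶ S) (F : ∀ ⦃Y' : Scheme.{u}⦄, (Y' ⟶ Y) → Prop)

instance isPreimmersion_str (A : Type u) [CommRing A] (p : Ideal A) [p.IsPrime] (i : (Idx A p)ᵒᵖ) :
    IsPreimmersion (str A p i) := by
  let L := Localization.Away i.unop.1.1
  let J := i.unop.1.2.map (algebraMap A L)
  haveI : IsOpenImmersion (Spec.map (CommRingCat.ofHom (algebraMap A L))) :=
    IsOpenImmersion.of_isLocalization i.unop.1.1
  haveI : IsClosedImmersion (Spec.map (CommRingCat.ofHom (Ideal.Quotient.mk J))) :=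
    IsClosedImmersion.spec_of_surjective _ Ideal.Quotient.mk_surjective
  have e : str A p i = Spec.map (CommRingCat.ofHom (Ideal.Quotient.mk J)) ≫
      Spec.map (CommRingCat.ofHom (algebraMap A L)) := by
    show Spec.map _ = _
    rw [← Spec.map_comp]
    rfl
  rw [e]
  exact @IsPreimmersion.comp _ _ _ _ _ inferInstance inferInstance

/-- The hypothesis: a fibre with the property has a stage with the property. -/
def DescendsToStage : Prop :=
  ∀ (A : CommRingCat.{u}) (j : Spec A ⟶ S) [IsOpenImmersion j] (p : Ideal A) [p.IsPrime],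
    F (pullback.fst g (Spec.map (CommRingCat.ofHom (algebraMap A p.ResidueField)) ≫ j)) →
    ∃ d : (Idx A p)ᵒᵖ, F (pullback.fst g (str A p d ≫ j))

theorem congr_of_iso (hmono : ∀ ⦃Y' Y'' : Scheme.{u}⦄ (a : Y'' ⟶ Y') (t : Y' ⟶ Y), F t → F (a ≫ t))
    {T T' : Scheme.{u}} (q : T ⟶ S) (q' : T' ⟶ S) (a : T' ⟶ T) (ha : a ≫ q = q')
    (h : F (pullback.fst g q)) : F (pullback.fst g q') := by
  have e : pullback.lift (pullback.fst g q') (pullback.snd g q' ≫ a)
      (by rw [Category.assoc, ha]; exact pullback.condition) ≫ pullback.fst g q = pullback.fst g q' :=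
    pullback.lift_fst _ _ _
  rw [← e]
  exact hmono _ _ h

/-- The locus is ind-constructible. -/
theorem isIndConstructible (hmono : ∀ ⦃Y' Y'' : Scheme.{u}⦄ (a : Y'' ⟶ Y') (t : Y' ⟶ Y), F t → F (a ≫ t))
    (hdesc : DescendsToStage g F) :
    ProCons.IsIndConstructible {s : S | F (pullback.fst g (S.fromSpecResidueField s))} := by
  intro x
  obtain ⟨U, hU, hxU, -⟩ := exists_isAffineOpen_mem_and_subset (x := x) (U := (⊤ : S.Opens)) trivial
  refine ⟨(U : Set S), U.2, hxU,
    {T | IsLocallyConstructible T ∧ T ⊆ Subtype.val ⁻¹' {s : S | F (pullback.fst g (S.fromSpecResidueField s))}},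
    fun T hT => hT.1, Set.Subset.antisymm ?_ (Set.sUnion_subset fun T hT => hT.2)⟩
  rintro ⟨s, hsU⟩ hs
  haveI : IsAffine U.toScheme := hU
  let A : CommRingCat.{u} := Γ(S, U)
  let y : Spec A := hU.primeIdealOf ⟨s, hsU⟩
  have hy : hU.fromSpec y = s := hU.fromSpec_primeIdealOf _
  let p : Ideal A := y.asIdeal
  let w := Spec.map (CommRingCat.ofHom (algebraMap A p.ResidueField))
  have hwy : w (IsLocalRing.closedPoint p.ResidueField) = y := by
    refine PrimeSpectrum.ext ?_
    show Ideal.comap (algebraMap A p.ResidueField) (IsLocalRing.maximalIdeal p.ResidueField) = p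
    rw [IsLocalRing.maximalIdeal_eq_bot, ← RingHom.ker_eq_comap_bot, Ideal.ker_algebraMap_residueField]
  -- the fibre at `s` is the fibre at the point `Spec κ(p)`
  have hw : F (pullback.fst g (w ≫ hU.fromSpec)) := by
    obtain ⟨⟨s', φ⟩, hφ⟩ : ∃ q : Σ s : S, S.residueField s ⟶ CommRingCat.of p.ResidueField,
        Spec.map q.2 ≫ S.fromSpecResidueField q.1 = w ≫ hU.fromSpec :=
      ⟨Scheme.SpecToEquivOfField p.ResidueField S (w ≫ hU.fromSpec),
        (Scheme.SpecToEquivOfField p.ResidueField S).left_inv _⟩
    have hs' : s' = s := by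
      have h1 := congrArg (fun m => m (IsLocalRing.closedPoint p.ResidueField)) hφ
      simp only [Scheme.Hom.comp_apply, Scheme.fromSpecResidueField_apply] at h1
      exact h1.trans ((congrArg _ hwy).trans hy)
    subst hs'
    exact congr_of_iso g F hmono _ _ _ hφ hs
  obtain ⟨d, hd⟩ := hdesc A hU.fromSpec p hw
  let qk := str A p d
  let qU : (sys A p).obj d ⟶ U.toScheme := qk ≫ hU.isoSpec.inv
  refine ⟨Set.range qU, ⟨?_, ?_⟩, ?_⟩
  · haveI : LocallyOfFinitePresentation qU := inferInstanceAs (LocallyOfFinitePresentation (qk ≫ _))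
    haveI : QuasiCompact qU := quasiCompact_of_compactSpace qU
    rw [← Set.image_univ]
    exact (Scheme.Hom.isLocallyConstructible_image qU IsLocallyConstructible.univ)
  · rintro _ ⟨r, rfl⟩
    let q : (sys A p).obj d ⟶ S := qk ≫ hU.fromSpec
    have hq : q r = (qU r).1 := by
      show (qk ≫ hU.fromSpec) r = U.ι (qU r)
      rw [show qk ≫ hU.fromSpec = qU ≫ U.ι from (Category.assoc qk hU.isoSpec.inv U.ι).symm, Scheme.Hom.comp_apply]
    show F (pullback.fst g (S.fromSpecResidueField (qU r).1))
    rw [← hq]
    haveI : IsPreimmersion q := @IsPreimmersion.comp _ _ _ _ _ inferInstance inferInstance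
    haveI : IsIso (q.residueFieldMap r) := by
      rw [ConcreteCategory.isIso_iff_bijective]
      refine ⟨(q.residueFieldMap r).hom.injective, fun z => ?_⟩
      obtain ⟨z, rfl⟩ := IsLocalRing.residue_surjective z
      obtain ⟨z, rfl⟩ := q.stalkMap_surjective r z
      exact ⟨IsLocalRing.residue _ z, rfl⟩
    refine congr_of_iso g F hmono q _ (inv (Spec.map (q.residueFieldMap r)) ≫ ((sys A p).obj d).fromSpecResidueField r) ?_ hd
    rw [Category.assoc, ← Scheme.Hom.SpecMap_residueFieldMap_fromSpecResidueField, IsIso.inv_hom_id_assoc]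
  · refine ⟨(cone A p).π.app d (IsLocalRing.closedPoint p.ResidueField), Subtype.ext ?_⟩
    show U.ι (((cone A p).π.app d ≫ qU) _) = s
    rw [← Scheme.Hom.comp_apply]
    show ((((cone A p).π.app d ≫ qk ≫ hU.isoSpec.inv) ≫ U.ι) _) = s
    rw [Category.assoc, Category.assoc, show hU.isoSpec.inv ≫ U.ι = hU.fromSpec from rfl, ← Category.assoc,
      show (cone A p).π.app d ≫ qk = w from π_str A p d, Scheme.Hom.comp_apply]
    exact (congrArg _ hwy).trans hy

/-- The standard squares over a stage. -/
theorem exists_squares {X : Scheme.{u}} (f : X ⟶ Y) [LocallyOfFinitePresentation g] [QuasiCompact g]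
    [QuasiSeparated g] [LocallyOfFinitePresentation f] [QuasiCompact f] [QuasiSeparated f]
    (A : CommRingCat.{u}) (j : Spec A ⟶ S) (p : Ideal A) [p.IsPrime] :
    let i : (Idx A p)ᵒᵖ := Opposite.op (Classical.arbitrary _)
    let w := Spec.map (CommRingCat.ofHom (algebraMap A p.ResidueField)) ≫ j
    let f₀ := pullback.snd f (pullback.fst g (str A p i ≫ j))
    let g₀ := pullback.snd g (str A p i ≫ j)
    (CompactSpace ↥(pullback g (str A p i ≫ j)) ∧ QuasiSeparatedSpace ↥(pullback g (str A p i ≫ j)) ∧
      CompactSpace ↥(pullback f (pullback.fst g (str A p i ≫ j))) ∧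
      QuasiSeparatedSpace ↥(pullback f (pullback.fst g (str A p i ≫ j))) ∧
      LocallyOfFinitePresentation f₀) ∧
    (∃ (qY : pullback g w ⟶ pullback g (str A p i ≫ j))
      (qX : pullback f (pullback.fst g w) ⟶ pullback f (pullback.fst g (str A p i ≫ j))),
      IsPullback qY (pullback.snd g w : _ ⟶ (cone A p).pt) g₀ ((cone A p).π.app i) ∧
      IsPullback qX (pullback.snd f (pullback.fst g w)) f₀ qY ∧
      qX ≫ pullback.fst _ _ = pullback.fst f (pullback.fst g w)) ∧
    ∀ k : Over i, ∃ (t : pullback g₀ ((sys A p).map k.hom) ⟶ Y)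
      (v : pullback (f₀ ≫ g₀) ((sys A p).map k.hom) ⟶ X)
      (a : pullback g (str A p k.left ≫ j) ⟶ pullback g₀ ((sys A p).map k.hom)),
      a ≫ t = pullback.fst g (str A p k.left ≫ j) ∧
      v = pullback.fst _ _ ≫ pullback.fst f (pullback.fst g (str A p i ≫ j)) ∧
      IsPullback v ((AffLim.baseChangeMap (sys A p) i f₀ g₀).app k) f t := by
  intro i w f₀ g₀
  have hc : (cone A p).π.app i ≫ str A p i ≫ j = w := by rw [← Category.assoc, π_str]
  haveI : CompactSpace ↥((sys A p).obj i) := inferInstance
  haveI : QuasiSeparatedSpace ↥((sys A p).obj i) := inferInstance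
  haveI hcY : CompactSpace ↥(pullback g (str A p i ≫ j)) := QuasiCompact.compactSpace_of_compactSpace g₀
  haveI hqY : QuasiSeparatedSpace ↥(pullback g (str A p i ≫ j)) := quasiSeparatedSpace_of_quasiSeparated g₀
  refine ⟨⟨hcY, hqY, QuasiCompact.compactSpace_of_compactSpace f₀, quasiSeparatedSpace_of_quasiSeparated f₀,
    inferInstance⟩, ?_, fun k => ?_⟩
  · let qY : pullback g w ⟶ pullback g (str A p i ≫ j) :=
      pullback.lift (pullback.fst g w) ((pullback.snd g w : _ ⟶ (cone A p).pt) ≫ (cone A p).π.app i)
        (by rw [Category.assoc, hc]; exact pullback.condition)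
    let qX : pullback f (pullback.fst g w) ⟶ pullback f (pullback.fst g (str A p i ≫ j)) :=
      pullback.lift (pullback.fst f _) (pullback.snd f _ ≫ qY)
        (by rw [Category.assoc, pullback.lift_fst]; exact pullback.condition)
    refine ⟨qY, qX, ?_, ?_, pullback.lift_fst _ _ _⟩
    · refine IsPullback.of_right ?_ (pullback.lift_snd _ _ _) (IsPullback.of_hasPullback g _)
      rw [pullback.lift_fst, hc]
      exact IsPullback.of_hasPullback _ _
    · refine IsPullback.of_right ?_ (pullback.lift_snd _ _ _) (IsPullback.of_hasPullback f _)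
      rw [pullback.lift_fst, pullback.lift_fst]
      exact IsPullback.of_hasPullback _ _
  · have hk : (sys A p).map k.hom ≫ str A p i ≫ j = str A p k.left ≫ j := by
      rw [← Category.assoc, map_str]
    let t := pullback.fst g₀ ((sys A p).map k.hom) ≫ pullback.fst g (str A p i ≫ j)
    have hY1 : IsPullback t (pullback.snd g₀ ((sys A p).map k.hom)) g (str A p k.left ≫ j) := by
      rw [← hk]
      exact (IsPullback.of_hasPullback g₀ ((sys A p).map k.hom)).paste_horiz (IsPullback.of_hasPullback g _)
    exact ⟨t, _, hY1.isoPullback.inv, hY1.isoPullback_inv_fst, rfl,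
      (AffLim.isPullback_baseChangeMap (sys A p) i f₀ g₀ k).paste_horiz (IsPullback.of_hasPullback f _)⟩

/-- A fibre map is the pullback of the map along the inclusion of the fibre. -/
theorem isPullback_fib {X : Scheme.{u}} (f : X ⟶ Y) (s : S) :
    IsPullback (pullback.fst (f ≫ g) (S.fromSpecResidueField s)) (FibreMapConstr.fib f g s) f
      (pullback.fst g (S.fromSpecResidueField s)) := by
  refine IsPullback.of_bot ?_ (pullback.lift_fst _ _ _).symm (IsPullback.of_hasPullback g _)
  rw [show FibreMapConstr.fib f g s ≫ pullback.snd g (S.fromSpecResidueField s) =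
    pullback.snd (f ≫ g) (S.fromSpecResidueField s) from pullback.lift_snd _ _ _]
  exact IsPullback.of_hasPullback _ _

/-- Properties of morphisms stable under base change and descending to stages. -/
theorem isIndConstructible_fib (P : MorphismProperty Scheme.{u}) [P.IsStableUnderBaseChange]
    (hP : EtAlgEasy.IndConsPair.Descends P) {X : Scheme.{u}} (f : X ⟶ Y)
    [LocallyOfFinitePresentation g] [QuasiCompact g] [QuasiSeparated g]
    [LocallyOfFinitePresentation f] [QuasiCompact f] [QuasiSeparated f] :
    ProCons.IsIndConstructible {s : S | P (FibreMapConstr.fib f g s)} := by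
  have key : ∀ s : S, P (FibreMapConstr.fib f g s) ↔
      P (pullback.snd f (pullback.fst g (S.fromSpecResidueField s))) := fun s => by
    rw [← (isPullback_fib g f s).isoPullback_hom_snd, P.cancel_left_of_respectsIso]
  rw [show {s : S | P (FibreMapConstr.fib f g s)} =
    {s : S | P (pullback.snd f (pullback.fst g (S.fromSpecResidueField s)))} from Set.ext key]
  refine isIndConstructible g (fun _ t => P (pullback.snd f t)) (fun Y' Y'' a t h => ?_) fun A j _ p _ hw => ?_
  · let l : pullback f (a ≫ t) ⟶ pullback f t :=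
      pullback.lift (pullback.fst _ _) (pullback.snd _ _ ≫ a) (by rw [Category.assoc]; exact pullback.condition)
    refine P.of_isPullback (IsPullback.of_right ?_ (pullback.lift_snd _ _ _) (IsPullback.of_hasPullback f t) :
      IsPullback l (pullback.snd f (a ≫ t)) (pullback.snd f t) a) h
    rw [pullback.lift_fst]
    exact IsPullback.of_hasPullback _ _
  · obtain ⟨⟨_, _, _, _, _⟩, ⟨qY, qX, hY, hX, -⟩, hst⟩ := exists_squares g f A j p
    obtain ⟨k, hk⟩ := hP (sys A p) (cone A p) (isLimitCone A p) _ _ _ hY hX hw
    obtain ⟨t, v, a, hat, -, hsq⟩ := hst k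
    refine ⟨k.left, ?_⟩
    have h1 : P (pullback.snd f t) := by
      have := (P.cancel_left_of_respectsIso hsq.isoPullback.inv _).2 hk
      rwa [hsq.isoPullback_inv_snd] at this
    have h2 : P (pullback.snd f (a ≫ t)) := by
      let l : pullback f (a ≫ t) ⟶ pullback f t :=
        pullback.lift (pullback.fst _ _) (pullback.snd _ _ ≫ a) (by rw [Category.assoc]; exact pullback.condition)
      refine P.of_isPullback (IsPullback.of_right ?_ (pullback.lift_snd _ _ _) (IsPullback.of_hasPullback f t) :
        IsPullback l (pullback.snd f (a ≫ t)) (pullback.snd f t) a) h1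
      rw [pullback.lift_fst]
      exact IsPullback.of_hasPullback _ _
    rw [hat] at h2
    exact h2

end Groth.Agent.PointStage
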