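import Groth.Agent.S4845
import Groth.Agent.S4788
import Groth.Agent.S4792
import Groth.Agent.PullbackMod.LocFree
import Groth.Agent.PullbackMod.LimFree
import Groth.Agent.CurveLib.DegTensor
import Groth.Agent.VBLib.Point
import Groth.Prelude.Def_RelProj
import Mathlib

/-!
Quasi-projectivity of fibre maps descends to the stages of a point.
-/

set_option autoImplicit false
set_option backward.isDefEq.respectTransparency false
set_option linter.style.haveILetI false

universe u

open CategoryTheory CategoryTheory.Limits AlgebraicGeometry TopologicalSpace Topology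

noncomputable section

namespace Groth.Agent.PointStage

open Groth.Agent.AmpleLib

variable {X Y S : Scheme.{u}} (f : X ⟶ Y) (g : Y ⟶ S)

/-- The property of a base change of `f`. -/
abbrev QP : ∀ ⦃Y' : Scheme.{u}⦄, (Y' ⟶ Y) → Prop := fun _ t => RelProj.IsQuasiProjective (pullback.snd f t)

/-- Quasi-projectivity is inherited by base changes. -/
theorem qp_of_squares {Xj Yj X' Y' : Scheme.{u}} {t : Yj ⟶ Y} {pX : Xj ⟶ X} {fj : Xj ⟶ Yj}
    {t' : Y' ⟶ Y} {pX' : X' ⟶ X} {f' : X' ⟶ Y'} (a : Y' ⟶ Yj) (ha : a ≫ t = t')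
    (hj : IsPullback pX fj f t) (h' : IsPullback pX' f' f t')
    (h : RelProj.IsQuasiProjective fj) : RelProj.IsQuasiProjective f' := by
  obtain ⟨h1, h2, L, hL⟩ := h
  let b : X' ⟶ Xj := hj.lift pX' (f' ≫ a) (by rw [h'.w, Category.assoc, ha])
  have hb : IsPullback b f' fj a := by
    refine IsPullback.of_right ?_ (hj.lift_snd _ _ _) hj
    rw [hj.lift_fst, ha]
    exact h'
  refine ⟨MorphismProperty.of_isPullback hb h1, MorphismProperty.of_isPullback hb h2,
    (Scheme.Modules.pullback b).obj L, ?_⟩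
  have hid : RelAmple.IsRelAmple fj ((Scheme.Modules.pullback (𝟙 Xj)).obj L) :=
    ⟨hL.1, fun V => isAmple_of_iso ((Scheme.Modules.restrictFunctor _).mapIso
      ((Scheme.Modules.pullbackId _).app L).symm) (hL.2 V)⟩
  exact S4845.relAmple_of_squares L a (Category.comp_id a) (IsPullback.of_horiz_isIso ⟨by simp⟩) hb hid

theorem qp_mono ⦃Y' Y'' : Scheme.{u}⦄ (a : Y'' ⟶ Y') (t : Y' ⟶ Y) (h : QP f t) : QP f (a ≫ t) :=
  qp_of_squares f a rfl (IsPullback.of_hasPullback _ _) (IsPullback.of_hasPullback _ _) h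

theorem descendsToStage_qp [LocallyOfFinitePresentation g] [QuasiCompact g] [QuasiSeparated g]
    [LocallyOfFinitePresentation f] [QuasiCompact f] [QuasiSeparated f] :
    DescendsToStage g (QP f) := by
  intro A j₀ _ p _ hw
  obtain ⟨⟨hcY, hqY, hcX, hqX, hf₀⟩, ⟨qY, qX, hY, hX, -⟩, -⟩ := exists_squares g f A j₀ p
  let i : (Idx A p)ᵒᵖ := Opposite.op (Classical.arbitrary _)
  let tY := pullback.fst g (str A p i ≫ j₀)
  let f₀ := pullback.snd f tY
  let g₀ := pullback.snd g (str A p i ≫ j₀)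
  obtain ⟨-, -, L, hamp⟩ := hw
  have hL : PicF.IsInvertible L := AmpleLib.isInvertible_of_isRelAmple hamp
  let D := sys A p
  let c := cone A p
  have hc := isLimitCone A p
  haveI hD : ∀ (i j : (Idx A p)ᵒᵖ) (a : i ⟶ j), IsAffineHom (D.map a) := fun i j a => isAffineHom_sys A p a
  haveI hD' : ∀ {i j : (Idx A p)ᵒᵖ} (a : i ⟶ j), IsAffineHom (D.map a) := fun {i j} a => isAffineHom_sys A p a
  -- the invertible module on a stage
  let E := AffLim.baseChange D i (f₀ ≫ g₀)
  let cE := AffLim.baseChangeCone D c i (f₀ ≫ g₀)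
  obtain ⟨hcE⟩ := AffLim.nonempty_isLimit_baseChangeCone D c hc i (f₀ ≫ g₀)
  haveI : QuasiCompact (f₀ ≫ g₀) := inferInstance
  haveI : QuasiSeparated (f₀ ≫ g₀) := inferInstance
  haveI hcE' : ∀ k : Over i, CompactSpace ↥(E.obj k) := fun k =>
    QuasiCompact.compactSpace_of_compactSpace (pullback.snd (f₀ ≫ g₀) (D.map k.hom))
  haveI hqE' : ∀ k : Over i, QuasiSeparatedSpace ↥(E.obj k) := fun k =>
    quasiSeparatedSpace_of_quasiSeparated (pullback.snd (f₀ ≫ g₀) (D.map k.hom))
  let e := (hX.paste_vert hY).isoPullback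
  let L' := (Scheme.Modules.pullback e.inv).obj L
  have hL' : PicF.IsInvertible L' := isInvertible_pullback _ hL
  have hlf := PullbackMod.isQCoh_and_isFP_of_isFinLocFree L' (fun x => by
    obtain ⟨U, hx, h⟩ := CurveLib.isFinLocFreeOfRank_one hL' x
    exact ⟨U, 1, hx, h⟩)
  haveI := hlf.1
  obtain ⟨k, -, Fk, hFq, hFfp, ⟨eF⟩⟩ :=
    Groth.Agent.S4788.result E cE hcE (Over.mk (𝟙 i)) L' hlf.2
  haveI := hFq
  have hFk : FlatMod.IsFinLocFreeOfRank 1 ((Scheme.Modules.pullback (cE.π.app k)).obj Fk) :=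
    CurveLib.isFinLocFreeOfRank_one (ParaFLib.isInvertible_of_iso eF.symm hL')
  obtain ⟨j, φ, hj⟩ := (Groth.Agent.S4792.result E cE hcE k Fk hFfp 1).1 hFk
  let Lj := (Scheme.Modules.pullback (E.map φ)).obj Fk
  have hLj : PicF.IsInvertible Lj := VBLib.isInvertible_of_rank hj
  -- the squares over that stage
  let fj := (AffLim.baseChangeMap D i f₀ g₀).app j
  let gj := pullback.snd g₀ (D.map j.hom)
  let qY' : pullback g (Spec.map (CommRingCat.ofHom (algebraMap A p.ResidueField)) ≫ j₀) ⟶ pullback g₀ (D.map j.hom) :=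
    pullback.lift qY ((pullback.snd g _ : _ ⟶ c.pt) ≫ c.π.app j.left)
      (by rw [Category.assoc, c.w]; exact hY.w)
  let qX' := e.hom ≫ cE.π.app j
  have hY' : IsPullback qY' (pullback.snd g _ : _ ⟶ c.pt) gj (c.π.app j.left) := by
    refine IsPullback.of_right ?_ (pullback.lift_snd _ _ _) (IsPullback.of_hasPullback g₀ (D.map j.hom))
    rw [pullback.lift_fst, c.w]
    exact hY
  have hq1 : qX' ≫ pullback.fst (f₀ ≫ g₀) (D.map j.hom) = qX := by
    rw [show qX' ≫ pullback.fst (f₀ ≫ g₀) (D.map j.hom) = e.hom ≫ cE.π.app j ≫ pullback.fst (f₀ ≫ g₀) (D.map j.hom)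
        from Category.assoc _ _ _,
      show cE.π.app j ≫ pullback.fst (f₀ ≫ g₀) (D.map j.hom) = pullback.fst _ _ from
        (pullback.lift_fst _ _ _).trans (Category.comp_id _)]
    exact (hX.paste_vert hY).isoPullback_hom_fst
  have hq2 : qX' ≫ pullback.snd (f₀ ≫ g₀) (D.map j.hom) =
      (pullback.snd f _ ≫ (pullback.snd g _ : _ ⟶ c.pt)) ≫ c.π.app j.left := by
    rw [show qX' ≫ pullback.snd (f₀ ≫ g₀) (D.map j.hom) = e.hom ≫ cE.π.app j ≫ pullback.snd (f₀ ≫ g₀) (D.map j.hom)
        from Category.assoc _ _ _,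
      show cE.π.app j ≫ pullback.snd (f₀ ≫ g₀) (D.map j.hom) = pullback.snd (f₀ ≫ g₀) (c.π.app i) ≫ c.π.app j.left from
        pullback.lift_snd _ _ _, ← Category.assoc, (hX.paste_vert hY).isoPullback_hom_snd]
  have hfj₁ : fj ≫ pullback.fst g₀ (D.map j.hom) = pullback.fst (f₀ ≫ g₀) (D.map j.hom) ≫ f₀ :=
    pullback.lift_fst _ _ _
  have hfj₂ : fj ≫ pullback.snd g₀ (D.map j.hom) = pullback.snd (f₀ ≫ g₀) (D.map j.hom) :=
    (pullback.lift_snd _ _ _).trans (Category.comp_id _)
  have hX' : IsPullback qX' (pullback.snd f _) fj qY' := by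
    refine IsPullback.of_right ?_ ?_ (AffLim.isPullback_baseChangeMap D i f₀ g₀ j)
    · rw [hq1, pullback.lift_fst]
      exact hX
    · apply pullback.hom_ext
      · simp only [Category.assoc]
        rw [hfj₁, ← Category.assoc, hq1, pullback.lift_fst]
        exact hX.w
      · simp only [Category.assoc]
        rw [hfj₂, hq2, pullback.lift_snd, Category.assoc]
  let eL : (Scheme.Modules.pullback qX').obj Lj ≅ L :=
    (FpqcQCoh.cmpIso Fk (qX') (show qX' ≫ E.map φ = e.hom ≫ cE.π.app k by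
      rw [Category.assoc, cE.w φ])) ≪≫
      (FpqcQCoh.cmpIso Fk e.hom rfl).symm ≪≫
      (Scheme.Modules.pullback e.hom).mapIso eF ≪≫
      FpqcQCoh.cmpIso L e.hom e.hom_inv_id ≪≫ (Scheme.Modules.pullbackId _).app L
  have hamp' : RelAmple.IsRelAmple (pullback.snd f _) ((Scheme.Modules.pullback qX').obj Lj) :=
    ⟨hamp.1, fun V => isAmple_of_iso ((Scheme.Modules.restrictFunctor _).mapIso eL.symm) (hamp.2 V)⟩
  haveI : CompactSpace ↥(D.obj j.left) := inferInstance
  haveI hfj : LocallyOfFinitePresentation fj :=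
    MorphismProperty.of_isPullback (AffLim.isPullback_baseChangeMap D i f₀ g₀ j) hf₀
  haveI : QuasiCompact fj :=
    MorphismProperty.of_isPullback (AffLim.isPullback_baseChangeMap D i f₀ g₀ j) (inferInstanceAs (QuasiCompact f₀))
  haveI : QuasiSeparated fj :=
    MorphismProperty.of_isPullback (AffLim.isPullback_baseChangeMap D i f₀ g₀ j) (inferInstanceAs (QuasiSeparated f₀))
  haveI : LocallyOfFinitePresentation gj := inferInstanceAs (LocallyOfFinitePresentation (pullback.snd _ _))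
  haveI : QuasiCompact gj := inferInstanceAs (QuasiCompact (pullback.snd _ _))
  haveI : QuasiSeparated gj := inferInstanceAs (QuasiSeparated (pullback.snd _ _))
  obtain ⟨l, ψ, Xl, Yl, fl, gl, pY, pX, hYl, hXl, hampl⟩ :=
    (Groth.Agent.S4846.result D c hc j.left fj gj Lj hLj _ _ qY' qX' hY' hX').1 hamp'
  have hl : str A p l ≫ j₀ = (D.map ψ ≫ D.map j.hom) ≫ str A p i ≫ j₀ := by
    rw [Category.assoc, ← Category.assoc (D.map j.hom), map_str, ← Category.assoc, map_str]
  have hsqY : IsPullback ((pY ≫ pullback.fst g₀ (D.map j.hom)) ≫ tY) gl g (str A p l ≫ j₀) := by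
    rw [hl]
    exact (hYl.paste_horiz (IsPullback.of_hasPullback g₀ (D.map j.hom))).paste_horiz (IsPullback.of_hasPullback g _)
  have hsqX : IsPullback ((pX ≫ pullback.fst (f₀ ≫ g₀) (D.map j.hom)) ≫ pullback.fst f tY) fl f
      ((pY ≫ pullback.fst g₀ (D.map j.hom)) ≫ tY) :=
    (hXl.paste_horiz (AffLim.isPullback_baseChangeMap D i f₀ g₀ j)).paste_horiz (IsPullback.of_hasPullback f _)
  haveI : LocallyOfFiniteType f := inferInstance
  exact ⟨l, qp_of_squares f hsqY.isoPullback.inv hsqY.isoPullback_inv_fst hsqX (IsPullback.of_hasPullback _ _)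
    ⟨MorphismProperty.of_isPullback hsqX ‹_›, hampl.1, _, hampl⟩⟩

end Groth.Agent.PointStage
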